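import Cfsg.Agent.H439.Der.Tools
import Cfsg.Agent.H394.SqPsl2
import Cfsg.Agent.H390.PslSpec
import Cfsg.Agent.H270.Crit.LTwo
import Cfsg.Agent.Lib.Zsigmondy
import Cfsg.Agent.SignalizersComponents.SLQuasisimple

/-!
# One class of derangements (S3500): `PSL₂(q)`

`row_psl2`: every proper subgroup `M` of `PSL₂(q)`, `q ≥ 4`, `q ∉ {4,5,7,8,9}`, satisfies `Two`.
-/

set_option autoImplicit false

namespace Cfsg.Agent.H383.Der.Psl2

open Subgroup Cfsg Cfsg.Agent.H439.Der

/-! ### Small groups -/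

set_option maxRecDepth 100000 in
theorem orders_S4 : ∀ g : Equiv.Perm (Fin 4), g ^ 3 = 1 ∨ g ^ 4 = 1 := by decide

set_option maxRecDepth 100000 in
theorem orders_A5 : ∀ g : Equiv.Perm (Fin 5), Equiv.Perm.sign g = 1 → g ^ 2 = 1 ∨ g ^ 3 = 1 ∨ g ^ 5 = 1 := by decide

theorem orderOf_S4 (g : Equiv.Perm (Fin 4)) : orderOf g ≤ 5 := by
  rcases orders_S4 g with h | h
  · exact (orderOf_le_of_pow_eq_one (by norm_num) h).trans (by norm_num)
  · exact (orderOf_le_of_pow_eq_one (by norm_num) h).trans (by norm_num)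

theorem orderOf_A4 (g : alternatingGroup (Fin 4)) : orderOf g ≤ 5 := by
  rw [← Subgroup.orderOf_coe]
  exact orderOf_S4 _

theorem orderOf_A5 (g : alternatingGroup (Fin 5)) : orderOf g ≤ 5 := by
  rw [← Subgroup.orderOf_coe]
  rcases orders_A5 g (Equiv.Perm.mem_alternatingGroup.1 g.2) with h | h | h
  · exact (orderOf_le_of_pow_eq_one (by norm_num) h).trans (by norm_num)
  · exact (orderOf_le_of_pow_eq_one (by norm_num) h).trans (by norm_num)
  · exact (orderOf_le_of_pow_eq_one (by norm_num) h).trans (by norm_num)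

/-! ### Numbers -/

theorem three_pow : ∀ f : ℕ, 3 ≤ f → 8 * f + 1 < 3 ^ f := by
  intro f hf
  induction f, hf using Nat.le_induction with
  | base => norm_num
  | succ n hn ih => rw [pow_succ]; omega

theorem two_pow : ∀ f : ℕ, 4 ≤ f → 2 * f + 2 < 2 ^ f := by
  intro f hf
  induction f, hf using Nat.le_induction with
  | base => norm_num
  | succ n hn ih => rw [pow_succ]; omega

theorem odd_pow {p f : ℕ} (hp : p.Prime) (hp2 : p ≠ 2) (hf : 1 ≤ f) (h : 11 ≤ p ^ f) : 8 * f + 1 < p ^ f := by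
  have h3 : 3 ≤ p := by
    have := hp.two_le
    omega
  rcases (show f = 1 ∨ f = 2 ∨ 3 ≤ f by omega) with rfl | rfl | hf3
  · omega
  · by_contra hlt
    have h5 : p ≤ 4 := by
      by_contra h5
      have : 5 * 5 ≤ p * p := Nat.mul_le_mul (by omega) (by omega)
      rw [sq] at hlt
      omega
    have : p = 3 ∨ p = 4 := by omega
    rcases this with rfl | rfl
    · omega
    · norm_num at hp
  · exact (three_pow f hf3).trans_le (Nat.pow_le_pow_left h3 f)

/-- the arithmetic of `q` -/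
structure Ar (p f q d np nm : ℕ) : Prop where
  hp : p.Prime
  hf : 1 ≤ f
  hq : q = p ^ f
  hq11 : 11 ≤ q
  even : p = 2 → d = 1 ∧ 4 ≤ f ∧ np = q + 1 ∧ nm = q - 1 ∧ np = nm + 2 ∧ ¬ 2 ∣ np ∧ ¬ 2 ∣ nm
  odd : p ≠ 2 → d = 2 ∧ 2 * np = q + 1 ∧ 2 * nm = q - 1 ∧ np = nm + 1
  hd : d = Nat.gcd 2 (q - 1)
  hnp : np = (q + 1) / d
  hnm : nm = (q - 1) / d
  bound : 2 * (f * d) < np - 1
  bound2 : p = 2 → 2 * (f * d) < nm - 1

theorem exists_ar {p f q : ℕ} (hp : p.Prime) (hf : 1 ≤ f) (hq : q = p ^ f) (h4 : 4 ≤ q)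
    (h : q ∉ ({4,5,7,8,9} : Finset ℕ)) : Ar p f q (Nat.gcd 2 (q - 1)) ((q + 1) / Nat.gcd 2 (q - 1))
      ((q - 1) / Nat.gcd 2 (q - 1)) := by
  have h6 : q ≠ 6 := by
    intro h6
    rw [h6] at hq
    have h2 : (2 : ℕ) ∣ p := Nat.prime_two.dvd_of_dvd_pow (show 2 ∣ p ^ f by rw [← hq]; norm_num)
    have h3 : (3 : ℕ) ∣ p := Nat.prime_three.dvd_of_dvd_pow (show 3 ∣ p ^ f by rw [← hq]; norm_num)
    have h2' := (Nat.prime_dvd_prime_iff_eq Nat.prime_two hp).1 h2
    have h3' := (Nat.prime_dvd_prime_iff_eq Nat.prime_three hp).1 h3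
    omega
  have h10 : q ≠ 10 := by
    intro h6
    rw [h6] at hq
    have h2 : (2 : ℕ) ∣ p := Nat.prime_two.dvd_of_dvd_pow (show 2 ∣ p ^ f by rw [← hq]; norm_num)
    have h3 : (5 : ℕ) ∣ p := Nat.prime_five.dvd_of_dvd_pow (show 5 ∣ p ^ f by rw [← hq]; norm_num)
    have h2' := (Nat.prime_dvd_prime_iff_eq Nat.prime_two hp).1 h2
    have h3' := (Nat.prime_dvd_prime_iff_eq Nat.prime_five hp).1 h3
    omega
  simp only [Finset.mem_insert, Finset.mem_singleton, not_or] at h
  have h11 : 11 ≤ q := by omega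
  by_cases hp2 : p = 2
  · subst hp2
    have h2q : 2 ∣ q := by rw [hq]; exact dvd_pow_self 2 (by omega)
    have hd : Nat.gcd 2 (q - 1) = 1 := by
      rw [← Nat.coprime_iff_gcd_eq_one, Nat.coprime_two_left, Nat.odd_iff]
      omega
    have hf4 : 4 ≤ f := by
      by_contra hlt
      have : q ≤ 2 ^ 3 := by rw [hq]; exact Nat.pow_le_pow_right (by norm_num) (by omega)
      omega
    have h5 := two_pow f hf4
    rw [← hq] at h5
    rw [hd]
    refine ⟨hp, hf, hq, h11, fun _ => ⟨rfl, hf4, Nat.div_one _, Nat.div_one _, by rw [Nat.div_one, Nat.div_one]; omega,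
      by rw [Nat.div_one]; omega, by rw [Nat.div_one]; omega⟩, fun h => absurd rfl h, hd.symm, rfl, rfl, ?_, ?_⟩
    · rw [Nat.div_one]; omega
    · intro _; rw [Nat.div_one]; omega
  · have hodd : q % 2 = 1 := by
      have := (hp.odd_of_ne_two hp2).pow (n := f)
      rw [← hq] at this
      exact Nat.odd_iff.1 this
    have hd : Nat.gcd 2 (q - 1) = 2 := Nat.gcd_eq_left (by omega)
    have h5 := odd_pow hp hp2 hf (hq ▸ h11)
    rw [← hq] at h5
    rw [hd]
    refine ⟨hp, hf, hq, h11, fun h => absurd h hp2, fun _ => ⟨rfl, by omega, by omega, by omega⟩, hd.symm, rfl, rfl, ?_,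
      fun h => absurd h hp2⟩
    omega

namespace Ar

variable {p f q d np nm : ℕ}

theorem coprime (h : Ar p f q d np nm) : Nat.Coprime np nm := by
  rw [Nat.coprime_iff_gcd_eq_one]
  by_cases hp2 : p = 2
  · obtain ⟨-, -, -, -, h1, h2, h3⟩ := h.even hp2
    have h4 : Nat.gcd np nm ∣ 2 := by
      have := Nat.dvd_sub (Nat.gcd_dvd_left np nm) (Nat.gcd_dvd_right np nm)
      rwa [show np - nm = 2 by omega] at this
    rcases (Nat.dvd_prime Nat.prime_two).1 h4 with h5 | h5
    · exact h5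
    · exact absurd (h5 ▸ Nat.gcd_dvd_left np nm) h2
  · obtain ⟨-, -, -, h1⟩ := h.odd hp2
    have := Nat.dvd_sub (Nat.gcd_dvd_left np nm) (Nat.gcd_dvd_right np nm)
    rw [show np - nm = 1 by omega] at this
    exact Nat.dvd_one.1 this

theorem not_dvd_np (h : Ar p f q d np nm) : ¬ p ∣ np := by
  have hpq : p ∣ q := by rw [h.hq]; exact dvd_pow_self p (by have := h.hf; omega)
  intro h1
  have h2 : p ∣ q + 1 := by
    by_cases hp2 : p = 2
    · rw [← (h.even hp2).2.2.1]; exact h1
    · rw [← (h.odd hp2).2.1]; exact h1.mul_left 2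
  exact h.hp.one_lt.ne' (Nat.dvd_one.1 ((Nat.dvd_add_right hpq).1 h2))

theorem not_dvd_nm (h : Ar p f q d np nm) : ¬ p ∣ nm := by
  have hpq : p ∣ q := by rw [h.hq]; exact dvd_pow_self p (by have := h.hf; omega)
  intro h1
  have h2 : p ∣ q - 1 := by
    by_cases hp2 : p = 2
    · rw [← (h.even hp2).2.2.2.1]; exact h1
    · rw [← (h.odd hp2).2.2.1]; exact h1.mul_left 2
  have h5 : p ∣ q - (q - 1) := Nat.dvd_sub hpq h2
  have := h.hq11
  rw [Nat.sub_sub_self (by omega)] at h5
  exact h.hp.one_lt.ne' (Nat.dvd_one.1 h5)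

theorem coprime_q (h : Ar p f q d np nm) : Nat.Coprime np q := by
  rw [h.hq]
  exact Nat.Coprime.pow_right _ ((Nat.Prime.coprime_iff_not_dvd h.hp).2 h.not_dvd_np).symm

theorem six_le (h : Ar p f q d np nm) : 6 ≤ np := by
  have := h.hq11
  by_cases hp2 : p = 2
  · have := (h.even hp2).2.2.1; omega
  · have := (h.odd hp2).2.1; omega

theorem five_le (h : Ar p f q d np nm) : 5 ≤ nm := by
  have := h.hq11
  by_cases hp2 : p = 2
  · have := (h.even hp2).2.2.2.1; omega
  · have := (h.odd hp2).2.2.1; omega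

theorem nm_lt (h : Ar p f q d np nm) : nm < np := by
  by_cases hp2 : p = 2
  · have := (h.even hp2).2.2.2.2.1; omega
  · have := (h.odd hp2).2.2.2; omega

/-- six or `q = 11` -/
theorem six_or (h : Ar p f q d np nm) : 6 ≤ nm ∨ p = 11 := by
  by_contra hcon
  push Not at hcon
  have h11 := h.hq11
  by_cases hp2 : p = 2
  · have := (h.even hp2).2.2.2.1; omega
  · have := (h.odd hp2).2.2.1
    have hq : q = 11 ∨ q = 12 := by omega
    rcases hq with hq | hq
    · have h1 := h.hq
      rw [hq] at h1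
      have h2 : (11 : ℕ) ∣ p := (show Nat.Prime 11 by norm_num).dvd_of_dvd_pow (show 11 ∣ p ^ f by rw [← h1])
      exact hcon.2 ((Nat.prime_dvd_prime_iff_eq (by norm_num) h.hp).1 h2).symm
    · omega

end Ar

/-! ### The group -/

section

variable {F : Type*} [Field F] [Fintype F] {p f q d np nm : ℕ}

local notation "T2" => Matrix.ProjectiveSpecialLinearGroup (Fin 2) F

theorem finite_psl : Finite T2 := Quotient.finite _

/-- the spectrum -/
theorem spec [Fact p.Prime] [CharP F p] (hF : Fintype.card F = q) (h : Ar p f q d np nm) (k : ℕ) :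
    (∃ g : T2, orderOf g = k) ↔ (k ∣ p ∨ k ∣ nm ∨ k ∣ np) := by
  have h11 := h.hq11
  have h1 := Cfsg.Agent.H390.PslSpec.range_orderOf (F := F) (p := p) (by omega)
  have h2 : k ∈ Set.range (orderOf : T2 → ℕ) ↔ k ∈ Cfsg.Agent.H390.PslSpec.specSet p (Fintype.card F) := by
    rw [h1]
  have h3 : Cfsg.Agent.H390.PslSpec.dd q = d := h.hd.symm
  rw [hF] at h2
  simpa [Cfsg.Agent.H390.PslSpec.specSet, h3, ← h.hnp, ← h.hnm] using h2

/-- `|T| = q * nm * np * d` -/
theorem card_T (hF : Fintype.card F = q) (h : Ar p f q d np nm) : Nat.card T2 = q * (d * (nm * np)) := by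
  have h11 := h.hq11
  have h1 := Cfsg.Agent.H394.SqPsl2.card_psl (F := F)
  rw [hF, ← h.hd, Cfsg.Agent.H394.SqPsl2.sub_mul_self (by omega)] at h1
  by_cases hp2 : p = 2
  · obtain ⟨e1, -, e2, e3, -⟩ := h.even hp2
    rw [e1, one_mul, ← e2, ← e3] at h1
    rw [e1, h1]; ring
  · obtain ⟨e1, e2, e3, -⟩ := h.odd hp2
    rw [e1, ← e2, ← e3] at h1
    rw [e1]
    apply Nat.eq_of_mul_eq_mul_left (show 0 < 2 by norm_num)
    rw [h1]; ring

/-- the Borel subgroup -/
theorem card_B [Fact p.Prime] [CharP F p] (hF : Fintype.card F = q) (h : Ar p f q d np nm) (P : Sylow p T2) :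
    Nat.card (normalizer ((P : Subgroup T2) : Set T2)) = q * nm := by
  have h11 := h.hq11
  have h1 := Cfsg.Agent.H436.TT.index_normalizer (F := F) p P
  have h2 := (normalizer ((P : Subgroup T2) : Set T2)).card_mul_index
  rw [h1, hF, card_T hF h] at h2
  apply Nat.eq_of_mul_eq_mul_right (show 0 < q + 1 by omega)
  rw [h2]
  by_cases hp2 : p = 2
  · obtain ⟨e1, -, e2, e3, -⟩ := h.even hp2
    rw [e1, e2]; ring
  · obtain ⟨e1, e2, e3, -⟩ := h.odd hp2
    rw [e1, ← e2]; ring

/-- Dickson's theorem, numerically, for proper subgroups -/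
theorem dickson [Fact p.Prime] [CharP F p] (hF : Fintype.card F = q) (h : Ar p f q d np nm) (M : Subgroup T2)
    (hM : M ≠ ⊤) :
    (∃ k, (k ∣ np ∨ k ∣ nm) ∧ Nat.card M ∣ 2 * k) ∨
    (∃ (P : Sylow p T2) (K : Subgroup T2), K ≤ normalizer ((P : Subgroup T2) : Set T2) ∧ Nonempty (M ≃* K)) ∨
    ((∀ m ∈ M, orderOf m ≤ 5) ∧ Nat.card M ∣ 120) ∨
    (∃ q0 m : ℕ, 2 ≤ q0 ∧ 2 ≤ m ∧ q0 ^ m = q ∧ p ∣ q0 ∧ Nat.card M ∣ q0 * (q0 ^ 2 - 1)) := by
  have : Finite T2 := finite_psl
  have h11 := h.hq11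
  have hdick := Cfsg.Agent.S0799.result hF p M
  rw [← h.hd, ← h.hnp, ← h.hnm] at hdick
  rcases hdick with ⟨k, hk, hk'⟩ | hB | ⟨⟨e⟩⟩ | ⟨⟨e⟩⟩ | ⟨⟨e⟩⟩ | ⟨K, iK, iK', m, hm, he⟩
  · left
    refine ⟨k, hk, ?_⟩
    rcases hk' with ⟨-, h⟩ | ⟨⟨e⟩⟩
    · rw [h]; exact Dvd.intro_left 2 rfl
    · rw [Nat.card_congr e.toEquiv, DihedralGroup.nat_card]
  · exact Or.inr (Or.inl hB)
  · refine Or.inr (Or.inr (Or.inl ⟨fun m hm => ?_, ?_⟩))
    · have h1 := orderOf_A4 (e ⟨m, hm⟩)
      rwa [MulEquiv.orderOf_eq, ← Subgroup.orderOf_coe] at h1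
    · rw [Nat.card_congr e.toEquiv, nat_card_alternatingGroup, Nat.card_eq_fintype_card, Fintype.card_fin]
      decide
  · refine Or.inr (Or.inr (Or.inl ⟨fun m hm => ?_, ?_⟩))
    · have h1 := orderOf_S4 (e ⟨m, hm⟩)
      rwa [MulEquiv.orderOf_eq, ← Subgroup.orderOf_coe] at h1
    · rw [Nat.card_congr e.toEquiv, Nat.card_perm, Nat.card_eq_fintype_card, Fintype.card_fin]
      decide
  · refine Or.inr (Or.inr (Or.inl ⟨fun m hm => ?_, ?_⟩))
    · have h1 := orderOf_A5 (e ⟨m, hm⟩)
      rwa [MulEquiv.orderOf_eq, ← Subgroup.orderOf_coe] at h1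
    · rw [Nat.card_congr e.toEquiv, nat_card_alternatingGroup, Nat.card_eq_fintype_card, Fintype.card_fin]
      decide
  · refine Or.inr (Or.inr (Or.inr ?_))
    obtain ⟨q0, hq0⟩ : ∃ q0, Fintype.card K = q0 := ⟨_, rfl⟩
    have hq01 : 1 < q0 := hq0 ▸ Fintype.one_lt_card
    rw [hq0] at hm
    have hm0 : m ≠ 0 := by rintro rfl; rw [pow_zero] at hm; omega
    have hpp := h.hp
    obtain ⟨a, -, ha⟩ := (Nat.dvd_prime_pow hpp).1 (show q0 ∣ p ^ f by
      rw [← h.hq, ← hm]; exact dvd_pow_self q0 hm0)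
    have ha0 : a ≠ 0 := by rintro rfl; rw [pow_zero] at ha; omega
    have hpq0 : p ∣ q0 := ha ▸ dvd_pow_self p ha0
    have hcT := Cfsg.Agent.H394.SqPsl2.card_psl (F := F)
    rw [hF] at hcT
    have hM1 : Nat.card M ∣ q0 * (q0 ^ 2 - 1) ∧ (q0 = q → Nat.card T2 ≤ Nat.card M) := by
      rcases he with ⟨⟨e⟩⟩ | ⟨⟨e⟩⟩
      · have h1 := Cfsg.Agent.H394.SqPsl2.card_psl (F := K)
        rw [hq0, ← Nat.card_congr e.toEquiv] at h1
        refine ⟨⟨_, by rw [← h1]; ring⟩, ?_⟩
        rintro rfl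
        rw [← hcT] at h1
        exact (Nat.eq_of_mul_eq_mul_left (Nat.gcd_pos_of_pos_left _ (by norm_num)) h1).ge
      · have h1 := Cfsg.Agent.H394.SqPsl2.card_pgl (F := K)
        rw [hq0, ← Nat.card_congr e.toEquiv] at h1
        refine ⟨by rw [h1], ?_⟩
        rintro rfl
        rw [h1, ← hcT]
        exact Nat.le_mul_of_pos_left _ (Nat.gcd_pos_of_pos_left _ (by norm_num))
    refine ⟨q0, m, hq01, ?_, hm, hpq0, hM1.1⟩
    by_contra hm2
    have hm1 : m = 1 := by omega
    rw [hm1, pow_one] at hm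
    apply hM
    exact Subgroup.eq_top_of_le_card M (hM1.2 hm)

/-- a prime dividing `q0 * (q0 ^ 2 - 1)` -/
theorem prime_le {v q0 : ℕ} (hv : v.Prime) (hq0 : 2 ≤ q0) (h : v ∣ q0 * (q0 ^ 2 - 1)) : v ≤ q0 + 1 := by
  rw [Cfsg.Agent.H394.SqPsl2.sub_mul_self (by omega)] at h
  rcases hv.dvd_mul.1 h with h1 | h1
  · exact (Nat.le_of_dvd (by omega) h1).trans (by omega)
  · rcases hv.dvd_mul.1 h1 with h2 | h2
    · exact Nat.le_of_dvd (by omega) h2
    · exact (Nat.le_of_dvd (by omega) h2).trans (by omega)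

/-- **the normalizer of a subgroup of prime order `v`, `v` the order of a torus** -/
theorem card_normalizer_le [Fact p.Prime] [CharP F p] (hF : Fintype.card F = q) (h : Ar p f q d np nm) {v : ℕ}
    (hv : v.Prime) (hvn : v = np ∨ (p = 2 ∧ v = nm)) {x : T2} (hx : orderOf x = v) :
    Nat.card (normalizer (zpowers x : Set T2)) ≤ 2 * v := by
  have : Finite T2 := finite_psl
  have h11 := h.hq11
  set N := normalizer (zpowers x : Set T2) with hN
  have hcop := h.coprime
  have h7 : 7 ≤ v := by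
    have h6 : 6 ≤ v := by
      rcases hvn with rfl | ⟨rfl, rfl⟩
      · exact h.six_le
      · have := (h.even rfl).2.2.2.1; omega
    rcases Nat.eq_or_lt_of_le h6 with h6 | h6
    · rw [← h6] at hv; norm_num at hv
    · exact h6
  have hxN : x ∈ N := by
    rw [hN]
    exact le_normalizer (mem_zpowers x)
  have hvN : v ∣ Nat.card N := by
    rw [← hx, ← Subgroup.orderOf_mk x hxN]
    exact orderOf_dvd_natCard _
  have hsimple : IsSimpleGroup T2 := Matrix.ProjectiveSpecialLinearGroup.rank_two_simple'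
    (SignalizersComponents.SLQuasisimple.exists_sq_ne_one (by rw [Nat.card_eq_fintype_card, hF]; omega))
  have hNtop : N ≠ ⊤ := by
    intro htop
    have hnor : (zpowers x).Normal := normalizer_eq_top_iff.1 htop
    rcases hnor.eq_bot_or_eq_top with h1 | h1
    · rw [zpowers_eq_bot] at h1
      rw [h1, orderOf_one] at hx
      omega
    · have h2 : Nat.card T2 = v := by
        rw [← Subgroup.card_top (G := T2), ← h1, Nat.card_zpowers, hx]
      rw [card_T hF h] at h2
      have h3 : q ∣ v := ⟨_, h2.symm⟩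
      rcases (Nat.dvd_prime hv).1 h3 with h4 | h4
      · omega
      · have h5 : np ∣ v := ⟨q * (d * nm), by rw [← h2]; ring⟩
        have h6 : np ∣ q := by rw [h4]; exact h5
        have h8 := Nat.eq_one_of_dvd_coprimes h.coprime_q dvd_rfl h6
        have := h.six_le
        omega
  have hne2 : ¬ v ∣ 2 := fun h => by have := Nat.le_of_dvd (by norm_num) h; omega
  rcases dickson hF h N hNtop with ⟨k, hk, hk2⟩ | ⟨P, K, hK, ⟨e⟩⟩ | ⟨-, h120⟩ | ⟨q0, m, hq0, hm, hqm, -, hdvd⟩
  · have hk0 : 0 < k := by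
      have h6 := h.six_le
      have h5 := h.five_le
      rcases hk with hk | hk
      · exact Nat.pos_of_dvd_of_pos hk (by omega)
      · exact Nat.pos_of_dvd_of_pos hk (by omega)
    have hvk : v ∣ k := (hv.dvd_mul.1 (hvN.trans hk2)).resolve_left hne2
    have h1 : k ∣ v := by
      rcases hvn with rfl | ⟨-, rfl⟩
      · rcases hk with hk | hk
        · exact hk
        · exact absurd (Nat.eq_one_of_dvd_coprimes hcop dvd_rfl (hvk.trans hk)) hv.one_lt.ne'
      · rcases hk with hk | hk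
        · exact absurd (Nat.eq_one_of_dvd_coprimes hcop (hvk.trans hk) dvd_rfl) hv.one_lt.ne'
        · exact hk
    exact (Nat.le_of_dvd (by omega) hk2).trans (Nat.mul_le_mul_left 2 (Nat.le_of_dvd hv.pos h1))
  · have hcB := card_B hF h P
    have hNB : Nat.card N ∣ q * nm := by
      rw [← hcB, Nat.card_congr e.toEquiv]
      exact card_dvd_of_le hK
    rcases hvn with rfl | ⟨rfl, rfl⟩
    · exfalso
      rcases hv.dvd_mul.1 (hvN.trans hNB) with h1 | h1
      · exact hv.one_lt.ne' (Nat.eq_one_of_dvd_coprimes h.coprime_q dvd_rfl h1)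
      · exact hv.one_lt.ne' (Nat.eq_one_of_dvd_coprimes hcop dvd_rfl h1)
    · by_cases h2 : 2 ∣ Nat.card N
      · exfalso
        -- an involution commuting with an element of order `v`
        have hcK : Nat.card N = Nat.card K := Nat.card_congr e.toEquiv
        obtain ⟨t, ht⟩ := exists_prime_orderOf_dvd_card' 2 h2
        set t' : T2 := (e t : T2) with ht'
        set x' : T2 := (e ⟨x, hxN⟩ : T2) with hx'
        have hot : orderOf t' = 2 := by rw [ht', Subgroup.orderOf_coe, MulEquiv.orderOf_eq, ht]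
        have hox : orderOf x' = v := by
          rw [hx', Subgroup.orderOf_coe, MulEquiv.orderOf_eq, Subgroup.orderOf_mk, hx]
        have htB : t' ∈ normalizer ((P : Subgroup T2) : Set T2) := hK (e t).2
        have hxB : x' ∈ normalizer ((P : Subgroup T2) : Set T2) := hK (e _).2
        -- `t' ∈ P`
        have htP : t' ∈ (P : Subgroup T2) := by
          have hpg : IsPGroup 2 (zpowers t') := IsPGroup.of_card (n := 1) (by rw [Nat.card_zpowers, hot, pow_one])
          have h3 : IsPGroup 2 ((P : Subgroup T2) ⊔ zpowers t' : Subgroup T2) :=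
            IsPGroup.to_sup_of_normal_left' P.2 hpg ((zpowers_le).2 htB)
          have h4 := P.3 h3 le_sup_left
          rw [← h4]
          exact le_sup_right (a := (P : Subgroup T2)) (mem_zpowers t')
        -- the commutator
        have hc1 : t' * x' * t'⁻¹ ∈ zpowers x' := by
          have h3 : (t : T2) * x * (t : T2)⁻¹ ∈ zpowers x := by
            exact (Subgroup.mem_normalizer_iff.1 (show (t : T2) ∈ normalizer (zpowers x : Set T2) from t.2) x).1
              (mem_zpowers x)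
          obtain ⟨i, hi⟩ := mem_zpowers_iff.1 h3
          have h5 : (⟨x, hxN⟩ : N) ^ i = t * ⟨x, hxN⟩ * t⁻¹ := Subtype.ext hi
          refine mem_zpowers_iff.2 ⟨i, ?_⟩
          have h6 := congrArg (fun y => ((e y : K) : T2)) h5
          simpa using h6
        have hc2 : t' * x' * t'⁻¹ * x'⁻¹ ∈ zpowers x' := mul_mem hc1 (inv_mem (mem_zpowers x'))
        have hc3 : t' * x' * t'⁻¹ * x'⁻¹ ∈ (P : Subgroup T2) := by
          have h5 : x' * t'⁻¹ * x'⁻¹ ∈ (P : Subgroup T2) := by
            rw [Subgroup.mem_normalizer_iff] at hxB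
            exact (hxB _).1 (inv_mem htP)
          have h6 := mul_mem htP h5
          have h7 : t' * (x' * t'⁻¹ * x'⁻¹) = t' * x' * t'⁻¹ * x'⁻¹ := by group
          rwa [h7] at h6
        have hc4 : t' * x' * t'⁻¹ * x'⁻¹ = 1 := by
          have h5 : zpowers x' ⊓ (P : Subgroup T2) = ⊥ := by
            obtain ⟨n, hn⟩ := IsPGroup.iff_card.1 P.2
            apply Subgroup.inf_eq_bot_of_coprime
            rw [Nat.card_zpowers, hox, hn]
            apply Nat.Coprime.pow_right
            rw [Nat.coprime_primes hv Nat.prime_two]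
            omega
          have h6 : t' * x' * t'⁻¹ * x'⁻¹ ∈ zpowers x' ⊓ (P : Subgroup T2) := ⟨hc2, hc3⟩
          rwa [h5, mem_bot] at h6
        have hcomm : Commute t' x' := by
          have h5 : t' * x' = x' * t' := by
            rw [mul_inv_eq_one] at hc4
            rw [mul_inv_eq_iff_eq_mul] at hc4
            exact hc4
          exact h5
        have h9 : orderOf (t' * x') = 2 * v := by
          rw [hcomm.orderOf_mul_eq_mul_orderOf_of_coprime (by
            rw [hot, hox, Nat.coprime_primes Nat.prime_two hv]; omega), hot, hox]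
        obtain ⟨-, -, -, -, -, he1, he2⟩ := h.even rfl
        rcases (spec hF h (2 * v)).1 ⟨_, h9⟩ with h10 | h10 | h10
        · have := Nat.le_of_dvd (by norm_num) h10; omega
        · exact he2 ((Dvd.intro v rfl).trans h10)
        · exact he1 ((Dvd.intro v rfl).trans h10)
      · have h3 : Nat.Coprime (Nat.card N) q := by
          rw [h.hq]
          exact Nat.Coprime.pow_right _ ((Nat.Prime.coprime_iff_not_dvd Nat.prime_two).2 h2).symm
        have h4 := h3.dvd_of_dvd_mul_left hNB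
        have := Nat.le_of_dvd hv.pos h4
        omega
  · exfalso
    have h1 := hvN.trans h120
    rw [show 120 = 2 ^ 3 * (3 * 5) by norm_num, hv.dvd_mul, hv.dvd_mul] at h1
    rcases h1 with h1 | h1 | h1
    · have := Nat.le_of_dvd (by norm_num) (hv.dvd_of_dvd_pow h1); omega
    · have := Nat.le_of_dvd (by norm_num) h1; omega
    · have := Nat.le_of_dvd (by norm_num) h1; omega
  · exfalso
    have h1 := prime_le hv hq0 (hvN.trans hdvd)
    have h2 : q0 ^ 2 ≤ q := by rw [← hqm]; exact Nat.pow_le_pow_right (by omega) hm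
    by_cases hp2 : p = 2
    · have e := h.even hp2
      have h3 : q - 1 ≤ v := by
        rcases hvn with rfl | ⟨-, rfl⟩
        · omega
        · omega
      have h4 : q0 < 4 := by
        by_contra h4
        have : 4 * q0 ≤ q0 ^ 2 := by rw [sq]; exact Nat.mul_le_mul_right _ (by omega)
        omega
      omega
    · have e := h.odd hp2
      have h3 : v = np := by
        rcases hvn with h3 | ⟨h3, -⟩
        · exact h3
        · exact absurd h3 hp2
      have h4 : q0 < 4 := by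
        by_contra h4
        have : 4 * q0 ≤ q0 ^ 2 := by rw [sq]; exact Nat.mul_le_mul_right _ (by omega)
        omega
      omega

/-- not all elements of order `v` are conjugate under automorphisms, `v` prime the order of a torus -/
theorem not_SC [Fact p.Prime] [CharP F p] (hF : Fintype.card F = q) (h : Ar p f q d np nm) {v : ℕ}
    (hv : v.Prime) (hvn : v = np ∨ (p = 2 ∧ v = nm)) : ¬ SC T2 v := by
  have : Finite T2 := finite_psl
  have h11 := h.hq11
  obtain ⟨x, hx⟩ : ∃ g : T2, orderOf g = v := (spec hF h v).2 (by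
    rcases hvn with rfl | ⟨-, rfl⟩
    · exact Or.inr (Or.inr dvd_rfl)
    · exact Or.inr (Or.inl dvd_rfl))
  have hN := card_normalizer_le hF h hv hvn hx
  have hC : v ≤ Nat.card (centralizer ({x} : Set T2)) := by
    rw [← hx, ← Nat.card_zpowers]
    refine Subgroup.card_le_of_le ?_
    rw [zpowers_le, mem_centralizer_singleton_iff]
  have hO := Cfsg.Agent.H270.Crit.LTwo.card_out (F := F) h.hf (hF.trans h.hq) (by rw [← h.hq]; omega)
  rw [← h.hq, ← h.hd] at hO
  refine not_SC_of_lt hv hx rfl (hN.trans (Nat.mul_le_mul_left 2 hC)) hO.le ?_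
  rcases hvn with rfl | ⟨hp2, rfl⟩
  · have := h.bound; omega
  · have := h.bound2 hp2; omega

/-- a torus order coprime to `|M|` -/
theorem two_of_coprime [Fact p.Prime] [CharP F p] (hF : Fintype.card F = q) (h : Ar p f q d np nm) {n : ℕ}
    (hn : n = np ∨ (p = 2 ∧ n = nm)) {M : Subgroup T2} (hM : Nat.Coprime n (Nat.card M)) : Two T2 M := by
  have : Finite T2 := finite_psl
  have h5 : 5 ≤ n := by
    rcases hn with rfl | ⟨-, rfl⟩
    · exact (by norm_num : 5 ≤ 6).trans h.six_le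
    · exact h.five_le
  have hspec : ∀ k, k ∣ n → ∃ g : T2, orderOf g = k := fun k hk => (spec hF h k).2 (by
    rcases hn with rfl | ⟨-, rfl⟩
    · exact Or.inr (Or.inr hk)
    · exact Or.inr (Or.inl hk))
  have hnd : ∀ k, k ∣ n → k ≠ 1 → ¬ k ∣ Nat.card M := fun k hk h1 h2 =>
    h1 (Nat.eq_one_of_dvd_coprimes hM hk h2)
  by_cases hv : n.Prime
  · exact Two.of_not_dvd (hnd n dvd_rfl (by omega)) (not_SC hF h hv hn)
  · have hr : n.minFac.Prime := Nat.minFac_prime (by omega)
    have hrn : n.minFac ≠ n := fun h => hv (h ▸ hr)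
    obtain ⟨x, hx⟩ := hspec _ n.minFac_dvd
    obtain ⟨y, hy⟩ := hspec n dvd_rfl
    refine Two.of_orders hrn hx hy (fun m hm h1 => ?_) (fun m hm h1 => ?_)
    · apply hnd _ n.minFac_dvd hr.one_lt.ne'
      rw [← h1, ← Subgroup.orderOf_mk m hm]
      exact orderOf_dvd_natCard _
    · apply hnd n dvd_rfl (by omega)
      rw [← h1, ← Subgroup.orderOf_mk m hm]
      exact orderOf_dvd_natCard _

theorem two_of_ne_top [Fact p.Prime] [CharP F p] (hF : Fintype.card F = q) (h : Ar p f q d np nm) (M : Subgroup T2)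
    (hM : M ≠ ⊤) : Two T2 M := by
  have : Finite T2 := finite_psl
  have h11 := h.hq11
  have hcop := h.coprime
  have hord : ∀ m ∈ M, orderOf m ∣ Nat.card M := fun m hm => by
    rw [← Subgroup.orderOf_mk m hm]
    exact orderOf_dvd_natCard _
  rcases dickson hF h M hM with ⟨k, hk, hk2⟩ | ⟨P, K, hK, ⟨e⟩⟩ | ⟨h5, -⟩ | ⟨q0, m, hq0, hm, hqm, hpq0, hdvd⟩
  · -- dihedral groups
    by_cases hp2 : p = 2
    · obtain ⟨-, -, -, -, -, he1, he2⟩ := h.even hp2
      rcases hk with hk | hk
      · refine two_of_coprime hF h (Or.inr ⟨hp2, rfl⟩) (Nat.Coprime.coprime_dvd_right hk2 ?_)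
        exact Nat.Coprime.mul_right ((Nat.Prime.coprime_iff_not_dvd Nat.prime_two).2 he2).symm
          (hcop.symm.coprime_dvd_right hk)
      · refine two_of_coprime hF h (Or.inl rfl) (Nat.Coprime.coprime_dvd_right hk2 ?_)
        exact Nat.Coprime.mul_right ((Nat.Prime.coprime_iff_not_dvd Nat.prime_two).2 he1).symm
          (hcop.coprime_dvd_right hk)
    · have hpk : ¬ p ∣ Nat.card M := by
        intro h1
        rcases h.hp.dvd_mul.1 (h1.trans hk2) with h2 | h2
        · exact hp2 ((Nat.prime_dvd_prime_iff_eq h.hp Nat.prime_two).1 h2)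
        · rcases hk with hk | hk
          · exact h.not_dvd_np (h2.trans hk)
          · exact h.not_dvd_nm (h2.trans hk)
      obtain ⟨x, hx⟩ := (spec hF h p).2 (Or.inl dvd_rfl)
      have key : ∀ n' n : ℕ, Nat.Coprime n' n → 5 ≤ n' → k ∣ n → ¬ n' ∣ Nat.card M := by
        intro n' n hc h5 hkn h1
        have h2 : n' ∣ 2 := (hc.coprime_dvd_right hkn).dvd_of_dvd_mul_right (h1.trans hk2)
        have := Nat.le_of_dvd (by norm_num) h2
        omega
      rcases hk with hk | hk
      · obtain ⟨y, hy⟩ := (spec hF h nm).2 (Or.inr (Or.inl dvd_rfl))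
        refine Two.of_orders (fun h1 => ?_) hx hy (fun m hm h1 => hpk (h1 ▸ hord m hm))
          (fun m hm h1 => key nm np hcop.symm h.five_le hk (h1 ▸ hord m hm))
        exact h.not_dvd_nm (h1 ▸ dvd_rfl)
      · obtain ⟨y, hy⟩ := (spec hF h np).2 (Or.inr (Or.inr dvd_rfl))
        refine Two.of_orders (fun h1 => ?_) hx hy (fun m hm h1 => hpk (h1 ▸ hord m hm))
          (fun m hm h1 => key np nm hcop (by have := h.six_le; omega) hk (h1 ▸ hord m hm))
        exact h.not_dvd_np (h1 ▸ dvd_rfl)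
  · -- Borel subgroups
    refine two_of_coprime hF h (Or.inl rfl) ?_
    have h1 : Nat.card M ∣ q * nm := by
      rw [← card_B hF h P, Nat.card_congr e.toEquiv]
      exact card_dvd_of_le hK
    exact Nat.Coprime.coprime_dvd_right h1 (Nat.Coprime.mul_right h.coprime_q hcop)
  · -- small groups
    obtain ⟨x, hx⟩ := (spec hF h np).2 (Or.inr (Or.inr dvd_rfl))
    have h6 := h.six_le
    rcases h.six_or with h7 | h7
    · obtain ⟨y, hy⟩ := (spec hF h nm).2 (Or.inr (Or.inl dvd_rfl))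
      exact Two.of_orders (h.nm_lt.ne') hx hy (fun m hm h1 => by have := h5 m hm; omega)
        (fun m hm h1 => by have := h5 m hm; omega)
    · obtain ⟨y, hy⟩ := (spec hF h p).2 (Or.inl dvd_rfl)
      refine Two.of_orders (fun h1 => ?_) hx hy (fun m hm h1 => by have := h5 m hm; omega)
        (fun m hm h1 => by have := h5 m hm; omega)
      exact h.not_dvd_np (h1 ▸ dvd_rfl)
  · -- subfields
    obtain ⟨r, hr, hr1, hr2, hr3⟩ := Cfsg.Agent.Lib.Zsigmondy.exists_primitive (a := q0) (n := 2 * m)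
      (by omega) (by omega) (by omega) (by
        rintro ⟨h9, h10⟩
        have h11' : m = 3 := by omega
        rw [h9, h11'] at hqm
        omega)
    have hq2 : r ∣ q ^ 2 - 1 := by
      rw [← hqm, ← pow_mul]
      exact (hr1 _).2 (by rw [mul_comm])
    have hqm1 : ¬ r ∣ q - 1 := by
      rw [← hqm]
      intro h1
      have := Nat.le_of_dvd (by omega) ((hr1 m).1 h1)
      omega
    have hrM : ¬ r ∣ Nat.card M := by
      intro h1
      rcases hr.dvd_mul.1 (h1.trans hdvd) with h2 | h2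
      · exact hr3 h2
      · have := Nat.le_of_dvd (by norm_num) ((hr1 2).1 h2)
        omega
    have hr2' : r ≠ 2 := by
      rintro rfl
      have := Nat.le_of_dvd (by norm_num) hr2
      omega
    have hrq : r ∣ q + 1 := by
      rw [Cfsg.Agent.H394.SqPsl2.sub_mul_self (by omega)] at hq2
      exact (hr.dvd_mul.1 hq2).resolve_right hqm1
    have hrn : r ∣ np := by
      by_cases hp2 : p = 2
      · rw [(h.even hp2).2.2.1]; exact hrq
      · rw [← (h.odd hp2).2.1] at hrq
        rcases hr.dvd_mul.1 hrq with h2 | h2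
        · exact absurd ((Nat.prime_dvd_prime_iff_eq hr Nat.prime_two).1 h2) hr2'
        · exact h2
    by_cases hne : r = np
    · exact Two.of_not_dvd hrM (not_SC hF h hr (Or.inl hne))
    · obtain ⟨x, hx⟩ := (spec hF h r).2 (Or.inr (Or.inr hrn))
      obtain ⟨y, hy⟩ := (spec hF h np).2 (Or.inr (Or.inr dvd_rfl))
      exact Two.of_orders hne hx hy (fun m hm h1 => hrM (h1 ▸ hord m hm))
        (fun m hm h1 => hrM (hrn.trans (h1 ▸ hord m hm)))

end

/-- every proper subgroup -/
theorem two_psl2 {F : Type*} [Field F] [Fintype F] (h4 : 4 ≤ Fintype.card F)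
    (hq : Fintype.card F ∉ ({4,5,7,8,9} : Finset ℕ)) (M : Subgroup (Matrix.ProjectiveSpecialLinearGroup (Fin 2) F))
    (hM : M ≠ ⊤) : Two (Matrix.ProjectiveSpecialLinearGroup (Fin 2) F) M := by
  obtain ⟨p, hchar⟩ := CharP.exists F
  have hp : Fact p.Prime := ⟨CharP.char_is_prime F p⟩
  obtain ⟨f, -, hf⟩ := FiniteField.card F p
  exact two_of_ne_top rfl (exists_ar hp.out f.2 hf h4 hq) M hM

/-- **S3500-PSL2** -/
theorem row_psl2 {F : Type} [Field F] [Fintype F] (h4 : 4 ≤ Fintype.card F)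
    (hq : Fintype.card F ∉ ({4,5,7,8,9} : Finset ℕ)) : Row (Matrix.ProjectiveSpecialLinearGroup (Fin 2) F) :=
  fun M hM => Or.inl (two_psl2 h4 hq M hM.1)

end Cfsg.Agent.H383.Der.Psl2
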